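import Mathlib

/-!
# Small algebraic facts for Wielandt's theorem on degree `2p`

Additive characters of `ZMod p`, two-by-two matrices with a common eigenvector, function algebras.
-/

set_option autoImplicit false

namespace Cfsg.Agent.H63.Wielandt

open Finset ComplexConjugate

section Char

variable (p : ℕ) [Fact p.Prime]

/-- The standard character of `ZMod p`. -/
noncomputable abbrev ψ : AddChar (ZMod p) ℂ := ZMod.stdAddChar

theorem sum_ψ_mul (y : ZMod p) : ∑ x : ZMod p, ψ p (x * y) = if y = 0 then (p : ℂ) else 0 := by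
  rw [AddChar.sum_mulShift y (ZMod.isPrimitive_stdAddChar p), ZMod.card]
  split_ifs <;> simp

theorem conj_ψ (x : ZMod p) : conj (ψ p x) = ψ p (-x) := by
  rw [AddChar.map_neg_eq_inv, Complex.inv_def]
  have hn : ‖ψ p x‖ = 1 := AddChar.norm_apply _ x
  rw [Complex.normSq_eq_norm_sq, hn]
  simp

theorem ψ_one_primitive : IsPrimitiveRoot (ψ p 1) p := by
  have hp : p.Prime := Fact.out
  have h1 : ψ p 1 ^ p = 1 := by
    rw [← AddChar.map_nsmul_eq_pow, nsmul_one, ZMod.natCast_self, AddChar.map_zero_eq_one]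
  have h2 : ψ p 1 ≠ 1 := by
    intro h
    have := sum_ψ_mul p 1
    simp only [mul_one, one_ne_zero, if_false] at this
    have h3 : ∀ x : ZMod p, ψ p x = 1 := fun x => by
      obtain ⟨n, rfl⟩ := ZMod.natCast_zmod_surjective x
      rw [show (n : ZMod p) = n • (1 : ZMod p) by simp, AddChar.map_nsmul_eq_pow, h, one_pow]
    simp [h3, hp.ne_zero] at this
  have h3 := orderOf_eq_prime h1 h2
  exact (IsPrimitiveRoot.iff_orderOf).2 h3

/-- A rational relation between the `p`-th roots of unity is constant. -/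
theorem eq_of_sum_mul_ψ_eq_zero (f : ZMod p → ℚ) {j : ZMod p} (hj : j ≠ 0)
    (h : ∑ x : ZMod p, (f x : ℂ) * ψ p (j * x) = 0) (x : ZMod p) : f x = f 0 := by
  have hp : p.Prime := Fact.out
  -- reduce to `j = 1`
  set g : ZMod p → ℚ := fun x => f (j⁻¹ * x) with hg
  have hsum : ∑ x : ZMod p, (g x : ℂ) * ψ p x = 0 := by
    rw [← h]
    refine Fintype.sum_equiv (Equiv.mulLeft₀ j⁻¹ (inv_ne_zero hj)) _ _ fun y => ?_
    simp [hg, ← mul_assoc, hj]
  set ζ := ψ p 1 with hζ
  set c := g ((p - 1 : ℕ) : ZMod p) with hc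
  set P : Polynomial ℚ :=
    ∑ i ∈ Finset.range (p - 1), Polynomial.C (g (i : ZMod p) - c) * Polynomial.X ^ i with hP
  have hψ : ∀ i : ℕ, ψ p (i : ZMod p) = ζ ^ i := fun i => by
    rw [hζ, ← AddChar.map_nsmul_eq_pow, nsmul_one]
  have hroot : Polynomial.aeval ζ P = 0 := by
    have e1 : ∀ F : ZMod p → ℂ, ∑ x : ZMod p, F x = ∑ i ∈ Finset.range p, F (i : ZMod p) := by
      intro F
      symm
      refine Finset.sum_bij (fun i _ => (i : ZMod p)) (fun _ _ => Finset.mem_univ _) ?_ ?_
        (fun _ _ => rfl)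
      · intro a ha b hb hab
        rw [Finset.mem_range] at ha hb
        have := congrArg ZMod.val hab
        rwa [ZMod.val_cast_of_lt ha, ZMod.val_cast_of_lt hb] at this
      · intro b _
        exact ⟨b.val, Finset.mem_range.2 (ZMod.val_lt b), ZMod.natCast_zmod_val b⟩
    rw [e1] at hsum
    have h0 : ∑ i ∈ Finset.range p, ψ p (i : ZMod p) = 0 := by
      rw [← e1 (fun x => ψ p x)]
      have h01 := sum_ψ_mul p 1
      simp only [mul_one, one_ne_zero, if_false] at h01
      exact h01
    have h1 : ∑ i ∈ Finset.range p, ((g (i : ZMod p) - c : ℚ) : ℂ) * ψ p (i : ZMod p) = 0 := by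
      simp only [Rat.cast_sub, sub_mul, Finset.sum_sub_distrib, hsum, ← Finset.mul_sum, h0,
        mul_zero, sub_zero]
    have e2 : Finset.range p = Finset.range (p - 1 + 1) := by
      congr 1
      have := hp.pos
      omega
    rw [e2, Finset.sum_range_succ] at h1
    simp only [← hc, sub_self, Rat.cast_zero, zero_mul, add_zero] at h1
    rw [hP, map_sum]
    simp only [map_mul, map_pow, Polynomial.aeval_C, Polynomial.aeval_X]
    rw [← h1]
    exact Finset.sum_congr rfl fun i _ => by rw [hψ]; simp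
  have hP0 : P = 0 := by
    by_contra hne
    have hdvd := minpoly.dvd ℚ ζ hroot
    rw [← Polynomial.cyclotomic_eq_minpoly_rat (ψ_one_primitive p) hp.pos] at hdvd
    have hle := Polynomial.degree_le_of_dvd hdvd hne
    rw [Polynomial.degree_cyclotomic, Nat.totient_prime hp] at hle
    have hlt : P.degree < ((p - 1 : ℕ) : WithBot ℕ) := by
      refine lt_of_le_of_lt (Polynomial.degree_sum_le _ _) ?_
      rw [Finset.sup_lt_iff (WithBot.bot_lt_coe _)]
      intro i hi
      refine lt_of_le_of_lt (Polynomial.degree_C_mul_X_pow_le i _) ?_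
      exact WithBot.coe_lt_coe.2 (Finset.mem_range.1 hi)
    exact absurd (lt_of_le_of_lt hle hlt) (lt_irrefl _)
  have hall : ∀ y : ZMod p, g y = c := by
    intro y
    rw [← ZMod.natCast_zmod_val y]
    rcases Nat.lt_or_ge y.val (p - 1) with hy | hy
    · have := congrArg (fun Q : Polynomial ℚ => Q.coeff y.val) hP0
      simp only [hP, Polynomial.finsetSum_coeff, Polynomial.coeff_C_mul_X_pow,
        Polynomial.coeff_zero] at this
      rw [Finset.sum_ite_eq, if_pos (Finset.mem_range.2 hy)] at this
      exact sub_eq_zero.1 this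
    · rw [show y.val = p - 1 by have := ZMod.val_lt y; omega]
  have h1 := hall (j * x)
  have h2 := hall 0
  simp only [hg] at h1 h2
  rw [← mul_assoc, inv_mul_cancel₀ hj, one_mul] at h1
  rw [mul_zero] at h2
  rw [h1, h2]

end Char

section Two

/-- The projection orthogonal to a vector of `ℂ²`. -/
noncomputable def orthProj (u : Fin 2 → ℂ) : Matrix (Fin 2) (Fin 2) ℂ :=
  (conj (u 0) * u 0 + conj (u 1) * u 1)⁻¹ •
    !![u 1 * conj (u 1) , -(conj (u 1) * u 0); -(conj (u 0) * u 1), u 0 * conj (u 0)]

theorem sumSq_ne_zero {u : Fin 2 → ℂ} (hu : u ≠ 0) :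
    conj (u 0) * u 0 + conj (u 1) * u 1 ≠ 0 := by
  intro h
  rw [← Complex.normSq_eq_conj_mul_self, ← Complex.normSq_eq_conj_mul_self] at h
  have h' : Complex.normSq (u 0) + Complex.normSq (u 1) = 0 := by exact_mod_cast h
  have h0 := Complex.normSq_nonneg (u 0)
  have h1 := Complex.normSq_nonneg (u 1)
  refine hu (funext fun i => ?_)
  fin_cases i
  · exact Complex.normSq_eq_zero.1 (by linarith : Complex.normSq (u 0) = 0)
  · exact Complex.normSq_eq_zero.1 (by linarith : Complex.normSq (u 1) = 0)

theorem trace_orthProj {u : Fin 2 → ℂ} (hu : u ≠ 0) : (orthProj u).trace = 1 := by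
  have hs := sumSq_ne_zero hu
  rw [orthProj, Matrix.trace_smul, Matrix.trace_fin_two_of, smul_eq_mul]
  field_simp
  ring

theorem orthProj_mul_self {u : Fin 2 → ℂ} (hu : u ≠ 0) : orthProj u * orthProj u = orthProj u := by
  have hs := sumSq_ne_zero hu
  ext i j
  fin_cases i <;> fin_cases j <;> simp [orthProj, Matrix.mul_apply, Fin.sum_univ_two] <;>
    field_simp <;> ring

/-- A matrix with a common eigenvector with its adjoint is `a + τ Π`. -/
theorem eq_of_common_eigvec {u : Fin 2 → ℂ} (hu : u ≠ 0) {N : Matrix (Fin 2) (Fin 2) ℂ} {a : ℂ}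
    (h : N.mulVec u = a • u) (h' : N.conjTranspose.mulVec u = conj a • u) :
    N = a • (1 : Matrix (Fin 2) (Fin 2) ℂ) + (N.trace - 2 * a) • orthProj u := by
  have hs := sumSq_ne_zero hu
  have e0 := congrFun h 0
  have e1 := congrFun h 1
  have f0 := congrArg conj (congrFun h' 0)
  have f1 := congrArg conj (congrFun h' 1)
  simp only [Matrix.mulVec, dotProduct, Fin.sum_univ_two, Pi.smul_apply, smul_eq_mul,
    Matrix.conjTranspose_apply, map_add, map_mul, Complex.conj_conj, ← starRingEnd_apply] at e0 e1 f0 f1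
  have key : ∀ i j, N i j = a * (1 : Matrix (Fin 2) (Fin 2) ℂ) i j +
      (N 0 0 + N 1 1 - 2 * a) * orthProj u i j := by
    intro i j
    fin_cases i <;> fin_cases j <;> simp [orthProj] <;> field_simp
    · linear_combination conj (u 0) * e0 - u 1 * f1
    · linear_combination u 0 * f1 + conj (u 1) * e0
    · linear_combination conj (u 0) * e1 + u 1 * f0
    · linear_combination conj (u 1) * e1 - u 0 * f0
  ext i j
  rw [key i j, Matrix.trace_fin_two]
  simp

end Two

/-- Functions on a finite set form the only separating subalgebra. -/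
theorem subalgebra_eq_top {ι : Type*} [Fintype ι] [DecidableEq ι] (S : Subalgebra ℂ (ι → ℂ))
    (hsep : ∀ i j : ι, i ≠ j → ∃ f ∈ S, f i ≠ f j) : S = ⊤ := by
  have hδ : ∀ i : ι, Pi.single i (1 : ℂ) ∈ S := by
    intro i
    choose f hf hne using hsep i
    let h : ι → ι → ℂ := fun j => if hij : i = j then 1 else
      (f j hij i - f j hij j)⁻¹ • (f j hij - algebraMap ℂ (ι → ℂ) (f j hij j))
    have hmem : ∀ j, h j ∈ S := fun j => by
      by_cases hij : i = j
      · simp only [h, dif_pos hij]; exact S.one_mem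
      · simp only [h, dif_neg hij]
        exact S.smul_mem (S.sub_mem (hf j hij) (S.algebraMap_mem _)) _
    have heq : Pi.single i (1 : ℂ) = ∏ j, h j := by
      funext k
      rw [Finset.prod_apply]
      rcases eq_or_ne k i with rfl | hk
      · rw [Pi.single_eq_same]
        refine (Finset.prod_eq_one fun j _ => ?_).symm
        by_cases hij : k = j
        · simp [h, dif_pos hij]
        · simp [h, dif_neg hij, sub_ne_zero.2 (hne j hij)]
      · rw [Pi.single_eq_of_ne hk]
        refine (Finset.prod_eq_zero (Finset.mem_univ k) ?_).symm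
        simp [h, dif_neg (Ne.symm hk)]
    rw [heq]
    exact S.prod_mem fun j _ => hmem j
  refine eq_top_iff.2 fun f _ => ?_
  rw [show f = ∑ i, f i • Pi.single i (1 : ℂ) by funext k; simp [Pi.single_apply]]
  exact S.sum_mem fun i _ => S.smul_mem (hδ i) _

end Cfsg.Agent.H63.Wielandt
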